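import Cfsg.Agent.Lib.ResidualRankOne.Data
import Cfsg.Agent.Lib.LocalStructure.PClosed
import Cfsg.Agent.Lib.SylowCount.Basic
import Mathlib.GroupTheory.Nilpotent

/-!
# A `p`-element centralising the Sylow normaliser

`Y` has trivial `p`-core, `X ⊴ Y` is perfect with `p`-group quotient and rank one simple central quotient:
then no non-trivial element of a Sylow `p`-subgroup centralises its normaliser.
-/

set_option autoImplicit false
set_option linter.unusedSectionVars false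

namespace Cfsg.Agent.ResidualRankOne

open Subgroup Cfsg.Agent.SylowInner

variable {Y : Type*} [Group Y] [Finite Y] {p : ℕ} [Fact p.Prime]

theorem eq_of_mk_eq {X : Type*} [Group X] [Finite X] (hZ : ¬ p ∣ Nat.card (center X)) {a b : X}
    {i j : ℕ} (ha : a ^ p ^ i = 1) (hb : b ^ p ^ j = 1)
    (h : (QuotientGroup.mk' (center X)) a = QuotientGroup.mk' (center X) b) : a = b := by
  have hc : a⁻¹ * b ∈ center X := QuotientGroup.eq.1 h
  have hcomm : Commute a⁻¹ b := by
    have h1 : Commute a⁻¹ (a⁻¹ * b) := mem_center_iff.1 hc a⁻¹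
    have h2 : Commute a⁻¹ (a * (a⁻¹ * b)) := ((Commute.refl a).inv_left).mul_right h1
    rwa [mul_inv_cancel_left] at h2
  have h1 : (a⁻¹ * b) ^ p ^ (i + j) = 1 := by
    rw [hcomm.mul_pow, inv_pow, pow_add, pow_mul, ha, one_pow, inv_one, one_mul, mul_comm, pow_mul, hb,
      one_pow]
  have h2 : orderOf (a⁻¹ * b) ∣ Nat.card (center X) := Subgroup.orderOf_dvd_natCard _ hc
  have h3 : Nat.Coprime (orderOf (a⁻¹ * b)) (p ^ (i + j)) :=
    Nat.Coprime.pow_right _ (((Fact.out : p.Prime).coprime_iff_not_dvd.2 fun h => hZ (h.trans h2)).symm)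
  exact inv_mul_eq_one.1 (orderOf_eq_one_iff.1
    (Nat.Coprime.eq_one_of_dvd h3 (orderOf_dvd_of_pow_eq_one h1)))

/-- A homomorphism of a perfect group into a centre is trivial. -/
theorem hom_center_eq_one {A : Type*} [Group A] (hperf : commutator A = ⊤) (f : A →* center A) (a : A) :
    f a = 1 := by
  have h : commutator A ≤ f.ker := by
    rw [commutator_eq_closure, closure_le]
    rintro _ ⟨b, c, rfl⟩
    rw [SetLike.mem_coe, MonoidHom.mem_ker, map_commutatorElement]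
    exact commutatorElement_eq_one_iff_mul_comm.2 (Subtype.ext (mem_center_iff.1 (f c).2 _))
  exact h (hperf.ge (mem_top a))

variable {X : Subgroup Y} [X.Normal]

set_option maxHeartbeats 1000000 in
theorem eq_one_of_data (hp : 5 ≤ p) (hO : Cfsg.pCore p Y = ⊥) (hpow : ∀ y : Y, ∃ k, y ^ p ^ k ∈ X)
    (hperf : commutator ↥X = ⊤) (hZ : ¬ p ∣ Nat.card (center ↥X))
    (hK : RankData p (↥X ⧸ center ↥X)) (T : Sylow p Y) {z : Y} (hz : z ∈ (T : Subgroup Y))
    (hc : ∀ y ∈ normalizer ((T : Subgroup Y) : Set Y), y * z = z * y) : z = 1 := by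
  classical
  haveI := hK.simple
  set π := QuotientGroup.mk' (center ↥X) with hπ
  have hπs : Function.Surjective π := QuotientGroup.mk'_surjective _
  obtain ⟨R, hR⟩ := SylowCount.exists_sylow_inf T X
  have hRmem : ∀ a : ↥X, a ∈ (R : Subgroup ↥X) ↔ (a : Y) ∈ (T : Subgroup Y) := fun a => by
    rw [hR, mem_subgroupOf]
  set V := R.mapSurjective hπs with hV
  have hVmem : ∀ b, b ∈ (V : Subgroup (↥X ⧸ center ↥X)) ↔ ∃ a ∈ (R : Subgroup ↥X), π a = b :=
    fun b => Iff.rfl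
  have hTc : ∀ t ∈ (T : Subgroup Y), t * z = z * t := fun t ht => hc t (le_normalizer ht)
  have hpT : ∀ t ∈ (T : Subgroup Y), ∃ k, t ^ p ^ k = 1 := fun t ht => by
    obtain ⟨k, hk⟩ := T.2 ⟨t, ht⟩
    exact ⟨k, congrArg Subtype.val hk⟩
  -- the simple quotient has trivial centre
  have hcK : center (↥X ⧸ center ↥X) = ⊥ := by
    refine (IsSimpleGroup.eq_bot_or_eq_top_of_normal _ inferInstance).resolve_right fun htop => ?_
    have h1 : commutator (↥X ⧸ center ↥X) = ⊤ := by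
      rw [commutator_def, ← map_top_of_surjective π hπs, ← map_commutator, ← commutator_def, hperf]
    have h2 : commutator (↥X ⧸ center ↥X) = ⊥ := by
      rw [commutator_def, commutator_eq_bot_iff_le_centralizer]
      intro a _ b _
      exact (mem_center_iff.1 (htop.ge (mem_top a)) b)
    exact bot_ne_top (h2.symm.trans h1)
  -- the induced automorphism is inner
  let e : ↥X ≃* ↥X := MulAut.conjNormal z
  let α : MulAut (↥X ⧸ center ↥X) :=
    QuotientGroup.congr _ _ e (ClassicalSimple.center_map_equiv e)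
  have hα : ∀ x : ↥X, α (π x) = π (e x) := fun x => rfl
  have hfix : ∀ b ∈ (V : Subgroup (↥X ⧸ center ↥X)), α b = b := by
    intro b hb
    obtain ⟨a, ha, rfl⟩ := (hVmem b).1 hb
    rw [hα]
    congr 1
    refine Subtype.ext ?_
    rw [MulAut.conjNormal_apply, ← hTc _ ((hRmem a).1 ha), mul_inv_cancel_right]
  obtain ⟨g, hg⟩ := hK.inner α V hfix
  obtain ⟨n, hn⟩ := hpT z hz
  have hgn : g ^ p ^ n = 1 := by
    have hpw : ∀ (j : ℕ) (x : ↥X), (α ^ j) (π x) = π ((e ^ j) x) := by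
      intro j
      induction j with
      | zero => intro x; simp
      | succ j ih => intro x; rw [pow_succ, MulAut.mul_apply, hα, ih, pow_succ, MulAut.mul_apply]
    have he : e ^ p ^ n = 1 := by
      show (MulAut.conjNormal z : MulAut ↥X) ^ p ^ n = 1
      rw [← map_pow, hn, map_one]
    have h1 : g ^ p ^ n ∈ center (↥X ⧸ center ↥X) := by
      refine mem_center_iff.2 fun b => ?_
      obtain ⟨x, rfl⟩ := hπs b
      have h2 : MulAut.conj (g ^ p ^ n) (π x) = π x := by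
        rw [map_pow, hg, hpw, he, MulAut.one_apply]
      rw [MulAut.conj_apply, mul_inv_eq_iff_eq_mul] at h2
      exact h2.symm
    rwa [hcK, mem_bot] at h1
  have hgc : ∀ b ∈ (V : Subgroup (↥X ⧸ center ↥X)), g * b = b * g := fun b hb => by
    have h := hfix b hb
    rw [← hg, MulAut.conj_apply, mul_inv_eq_iff_eq_mul] at h
    exact h
  have hgV : g ∈ (V : Subgroup (↥X ⧸ center ↥X)) := by
    have hle : zpowers g ≤ normalizer ((V : Subgroup (↥X ⧸ center ↥X)) : Set (↥X ⧸ center ↥X)) := by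
      rw [zpowers_le]
      refine mem_normalizer_fintype fun b hb => ?_
      rw [hgc b hb, mul_inv_cancel_right]
      exact hb
    have hgp : IsPGroup p (zpowers g) := fun x => by
      obtain ⟨i, hi⟩ := mem_zpowers_iff.1 x.2
      refine ⟨n, Subtype.ext ?_⟩
      show (x : ↥X ⧸ center ↥X) ^ p ^ n = 1
      rw [← hi, ← zpow_natCast, ← zpow_mul, mul_comm, zpow_mul, zpow_natCast, hgn, one_zpow]
    exact (V.3 (LocalStructure.isPGroup_sup hgp V.2 hle) le_sup_right).le
      ((le_sup_left : zpowers g ≤ _) (mem_zpowers g))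
  obtain ⟨u, huR, hug⟩ := (hVmem g).1 hgV
  have huT : (u : Y) ∈ (T : Subgroup Y) := (hRmem u).1 huR
  -- the factor centralises `X`
  set w : Y := (u : Y)⁻¹ * z with hw
  have hwT : w ∈ (T : Subgroup Y) := mul_mem (inv_mem huT) hz
  have hwX : ∀ x : ↥X, π (MulAut.conjNormal w x) = π x := by
    intro x
    have h1 : π (e x) = π (MulAut.conjNormal (u : Y) x) := by
      rw [← hα, ← hg, MulAut.conj_apply, ← hug, ← map_inv, ← map_mul, ← map_mul]
      congr 1
    have h2 : MulAut.conjNormal w x = u⁻¹ * e x * u := Subtype.ext (by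
      simp [e, hw, MulAut.conjNormal_apply, mul_assoc])
    have h3 : MulAut.conjNormal (u : Y) x = u * x * u⁻¹ := Subtype.ext (by
      simp [MulAut.conjNormal_apply])
    rw [h2, map_mul, map_mul, h1, h3, ← map_mul, ← map_mul]
    congr 1
    group
  let χ : ↥X →* center ↥X :=
    { toFun := fun x => ⟨x⁻¹ * MulAut.conjNormal w x, QuotientGroup.eq.1 (hwX x).symm⟩
      map_one' := Subtype.ext (by simp)
      map_mul' := fun a b => Subtype.ext (by
        show (a * b)⁻¹ * MulAut.conjNormal w (a * b) =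
          a⁻¹ * MulAut.conjNormal w a * (b⁻¹ * MulAut.conjNormal w b)
        have hm : b⁻¹ * (a⁻¹ * MulAut.conjNormal w a) = a⁻¹ * MulAut.conjNormal w a * b⁻¹ :=
          mem_center_iff.1 (QuotientGroup.eq.1 (hwX a).symm) b⁻¹
        calc (a * b)⁻¹ * MulAut.conjNormal w (a * b)
            = b⁻¹ * (a⁻¹ * MulAut.conjNormal w a) * MulAut.conjNormal w b := by rw [map_mul]; group
          _ = a⁻¹ * MulAut.conjNormal w a * (b⁻¹ * MulAut.conjNormal w b) := by rw [hm]; group) }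
  have hwC : w ∈ centralizer (X : Set Y) := by
    refine mem_centralizer_iff.2 fun x hx => ?_
    have h1 : χ ⟨x, hx⟩ = 1 := hom_center_eq_one hperf χ _
    have h2 : x⁻¹ * (w * x * w⁻¹) = 1 := by
      have := congrArg (fun a : center ↥X => ((a : ↥X) : Y)) h1
      simpa [χ, MulAut.conjNormal_apply] using this
    rw [inv_mul_eq_one, eq_mul_inv_iff_mul_eq] at h2
    exact h2
  have hw1 : w = 1 := by
    set C := centralizer (X : Set Y) with hC
    haveI hCn : C.Normal := Subgroup.normalizer_eq_top_iff.1 (top_le_iff.1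
      ((Subgroup.normalizer_eq_top_iff.2 (inferInstance : X.Normal)).ge.trans
        (fun y hy => LocalStructure.le_normalizer_centralizer (L := normalizer (X : Set Y)) le_rfl hy)))
    let f : ↥C →* Y ⧸ X := (QuotientGroup.mk' X).comp C.subtype
    haveI : Group.IsNilpotent f.range := by
      have hr : IsPGroup p f.range := by
        rintro ⟨_, c, rfl⟩
        obtain ⟨k, hk⟩ := hpow (c : Y)
        refine ⟨k, Subtype.ext ?_⟩
        show f c ^ p ^ k = 1
        rw [← map_pow]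
        exact (QuotientGroup.eq_one_iff _).2 (by simpa using hk)
      exact hr.isNilpotent
    have hker : f.rangeRestrict.ker ≤ center ↥C := by
      rw [MonoidHom.ker_rangeRestrict]
      intro c hcX
      refine mem_center_iff.2 fun d => Subtype.ext ?_
      have hcX' : (c : Y) ∈ X := (QuotientGroup.eq_one_iff _).1 (MonoidHom.mem_ker.1 hcX)
      exact (mem_centralizer_iff.1 d.2 _ hcX').symm
    haveI : Group.IsNilpotent ↥C := Subgroup.isNilpotent_of_ker_le_center f.rangeRestrict hker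
    have hwp : IsPGroup p (zpowers (⟨w, hwC⟩ : ↥C)) := by
      refine (T.2.comap_subtype (K := C)).to_le ?_
      rw [zpowers_le, mem_comap]
      exact hwT
    obtain ⟨Q, hQ⟩ := hwp.exists_le_sylow
    have hQn : (Q : Subgroup ↥C).Normal := inferInstance
    haveI := Q.characteristic_of_normal hQn
    have hle : (Q : Subgroup ↥C).map C.subtype ≤ Cfsg.pCore p Y :=
      LocalStructure.le_pCore inferInstance (Q.2.map _)
    have : w ∈ Cfsg.pCore p Y := hle ⟨⟨w, hwC⟩, hQ (mem_zpowers _), rfl⟩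
    rwa [hO, mem_bot] at this
  rw [hw, inv_mul_eq_one] at hw1
  subst hw1
  -- `z ∈ Z(T ∩ X)`; the torus
  obtain ⟨g', hg'N, hg'v⟩ := hK.torus.at_sylow V
  obtain ⟨x, rfl⟩ := hπs g'
  have hxN : ∀ a ∈ (R : Subgroup ↥X), x * a * x⁻¹ ∈ (R : Subgroup ↥X) := by
    intro a ha
    have h1 : π x * π a * (π x)⁻¹ ∈ (V : Subgroup (↥X ⧸ center ↥X)) :=
      (mem_normalizer_iff.1 hg'N _).1 ⟨a, ha, rfl⟩
    rw [← map_inv, ← map_mul, ← map_mul] at h1
    obtain ⟨b, hb, hbe⟩ := (hVmem _).1 h1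
    obtain ⟨i, hi⟩ := R.2 ⟨a, ha⟩
    obtain ⟨j, hj⟩ := R.2 ⟨b, hb⟩
    have hi' : (x * a * x⁻¹) ^ p ^ i = 1 := by
      rw [conj_pow, show a ^ p ^ i = 1 from congrArg Subtype.val hi]; group
    rw [← eq_of_mk_eq hZ (congrArg Subtype.val hj) hi' hbe]
    exact hb
  set U : Subgroup Y := (T : Subgroup Y) ⊓ X with hU
  set N : Subgroup Y := normalizer (U : Set Y) with hN
  have hTN : (T : Subgroup Y) ≤ N := by
    intro t ht
    refine mem_normalizer_fintype fun a ha => ?_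
    exact mem_inf.2 ⟨mul_mem (mul_mem ht ha.1) (inv_mem ht), Subgroup.Normal.conj_mem inferInstance a ha.2 t⟩
  have hxN' : (x : Y) ∈ N := by
    refine mem_normalizer_fintype fun a ha => ?_
    exact mem_inf.2 ⟨(hRmem _).1 (hxN ⟨a, ha.2⟩ ((hRmem _).2 ha.1)), mul_mem (mul_mem x.2 ha.2) (inv_mem x.2)⟩
  let Zs : Set Y := {v | v ∈ U ∧ ∀ b ∈ U, v * b = b * v}
  have hZs : ∀ y ∈ N, ∀ v ∈ Zs, y * v * y⁻¹ ∈ Zs := by
    rintro y hy v ⟨hvU, hvc⟩
    refine ⟨(mem_normalizer_iff.1 hy v).1 hvU, fun b hb => ?_⟩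
    have hb' : y⁻¹ * b * y ∈ U := (mem_normalizer_iff''.1 hy b).1 hb
    calc y * v * y⁻¹ * b = y * (v * (y⁻¹ * b * y)) * y⁻¹ := by group
      _ = y * ((y⁻¹ * b * y) * v) * y⁻¹ := by rw [hvc _ hb']
      _ = b * (y * v * y⁻¹) := by group
  have hx4 : ∀ v ∈ Zs, (x : Y) * v * (x : Y)⁻¹ = v ^ 4 := by
    rintro v ⟨hvU, hvc⟩
    have hvR : (⟨v, hvU.2⟩ : ↥X) ∈ (R : Subgroup ↥X) := (hRmem _).2 hvU.1
    have h1 := hg'v (π ⟨v, hvU.2⟩) ⟨_, hvR, rfl⟩ fun b hb => by
      obtain ⟨a, ha, rfl⟩ := (hVmem b).1 hb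
      rw [← map_mul, ← map_mul]
      congr 1
      exact Subtype.ext (hvc a ⟨(hRmem a).1 ha, a.2⟩)
    rw [← map_inv, ← map_mul, ← map_mul, ← map_pow] at h1
    obtain ⟨i, hi⟩ := R.2 ⟨_, hxN _ hvR⟩
    obtain ⟨j, hj⟩ := R.2 ⟨_, pow_mem hvR 4⟩
    exact congrArg (fun a : ↥X => (a : Y))
      (eq_of_mk_eq hZ (congrArg Subtype.val hi) (congrArg Subtype.val hj) h1)
  let C₀ : Subgroup Y := centralizer Zs ⊓ N
  have hC₀n : ∀ y ∈ N, ∀ k ∈ C₀, y * k * y⁻¹ ∈ C₀ := by
    rintro y hy k ⟨hk1, hk2⟩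
    refine mem_inf.2 ⟨mem_centralizer_iff.2 fun v hv => ?_, mul_mem (mul_mem hy hk2) (inv_mem hy)⟩
    have hv' := hZs y⁻¹ (inv_mem hy) v hv
    rw [inv_inv] at hv'
    calc v * (y * k * y⁻¹) = y * ((y⁻¹ * v * y) * k) * y⁻¹ := by group
      _ = y * (k * (y⁻¹ * v * y)) * y⁻¹ := by rw [mem_centralizer_iff.1 hk1 _ hv']
      _ = y * k * y⁻¹ * v := by group
  have hTC : (T : Subgroup Y) ≤ normalizer (C₀ : Set Y) := fun t ht =>
    mem_normalizer_fintype fun k hk => hC₀n t (hTN ht) k hk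
  have hxT : ((x : Y) • T : Sylow p Y) ≤ C₀ ⊔ (T : Subgroup Y) := by
    intro y hy
    rw [Sylow.coe_subgroup_smul] at hy
    obtain ⟨s, hs, rfl⟩ := hy
    show (x : Y) * s * (x : Y)⁻¹ ∈ C₀ ⊔ (T : Subgroup Y)
    have hs' : (x : Y) * s * (x : Y)⁻¹ * s⁻¹ ∈ C₀ := by
      refine mem_inf.2 ⟨mem_centralizer_iff.2 fun v hv => ?_,
        mul_mem (mul_mem (mul_mem hxN' (hTN hs)) (inv_mem hxN')) (inv_mem (hTN hs))⟩
      have hv1 := hZs s⁻¹ (inv_mem (hTN hs)) v hv
      rw [inv_inv] at hv1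
      have hv2 := hZs (x : Y)⁻¹ (inv_mem hxN') _ hv1
      rw [inv_inv] at hv2
      have hv3 := hZs s (hTN hs) _ hv2
      have e1 := hx4 _ hv2
      have e2 := hx4 _ hv3
      have e3 : (s * ((x : Y)⁻¹ * (s⁻¹ * v * s) * x) * s⁻¹) ^ 4 = v := by
        rw [conj_pow, ← e1]
        group
      rw [e3] at e2
      have e4 : (x : Y) * s * (x : Y)⁻¹ * s⁻¹ * v * ((x : Y) * s * (x : Y)⁻¹ * s⁻¹)⁻¹ = v := by
        conv_rhs => rw [← e2]
        group
      rw [mul_inv_eq_iff_eq_mul] at e4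
      exact e4.symm
    have := mul_mem (mem_sup_left (T := (T : Subgroup Y)) hs') (mem_sup_right (S := C₀) hs)
    rwa [inv_mul_cancel_right] at this
  obtain ⟨m, hm⟩ := MulAction.exists_smul_eq ↥(C₀ ⊔ (T : Subgroup Y))
    (((x : Y) • T : Sylow p Y).subtype hxT) (T.subtype le_sup_right)
  rw [Sylow.smul_subtype] at hm
  have hm2 : (m : Y) • (x : Y) • T = T := Sylow.subtype_injective hm
  rw [← mul_smul, Sylow.smul_eq_iff_mem_normalizer] at hm2
  obtain ⟨s, hs, k, hk, hmk⟩ : ∃ s ∈ (T : Subgroup Y), ∃ k ∈ C₀, (m : Y) = s * k := by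
    have := m.2
    rw [← SetLike.mem_coe, Subgroup.coe_mul_of_right_le_normalizer_left C₀ (T : Subgroup Y) hTC] at this
    obtain ⟨k, hk, s, hs, e⟩ := Set.mem_mul.1 this
    refine ⟨s, hs, s⁻¹ * k * s, ?_, by rw [← e]; group⟩
    have := hC₀n s⁻¹ (inv_mem (hTN hs)) k hk
    rwa [inv_inv] at this
  have hkx : k * (x : Y) ∈ normalizer ((T : Subgroup Y) : Set Y) := by
    have := mul_mem (inv_mem (le_normalizer hs)) hm2
    rwa [hmk, show s⁻¹ * (s * k * (x : Y)) = k * (x : Y) by group] at this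
  have huZ : (u : Y) ∈ Zs := ⟨⟨huT, u.2⟩, fun b hb => (hTc b hb.1).symm⟩
  have h4 : (u : Y) ^ 4 = u := by
    have h1 := hc _ hkx
    have h2 : k * ((x : Y) * u * (x : Y)⁻¹) * k⁻¹ = u := by
      calc k * ((x : Y) * u * (x : Y)⁻¹) * k⁻¹ = k * (x : Y) * u * (k * (x : Y))⁻¹ := by group
        _ = u := by rw [h1]; group
    rw [hx4 _ huZ] at h2
    have h3 : (u : Y) ^ 4 ∈ Zs := by
      rw [← hx4 _ huZ]
      exact hZs _ hxN' _ huZ
    rwa [← mem_centralizer_iff.1 hk.1 _ h3, mul_inv_cancel_right] at h2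
  have h3 : (u : Y) ^ 3 = 1 := by
    rw [pow_succ] at h4
    exact mul_eq_right.1 h4
  obtain ⟨i, hi⟩ := hpT _ huT
  have hd3 := orderOf_dvd_of_pow_eq_one h3
  have hdp := orderOf_dvd_of_pow_eq_one hi
  refine orderOf_eq_one_iff.1 (Nat.Coprime.eq_one_of_dvd ?_ hdp)
  refine Nat.Coprime.pow_right _ (Nat.Coprime.coprime_dvd_left hd3 ?_)
  exact (Nat.coprime_primes (by norm_num) Fact.out).2 (by omega)

end Cfsg.Agent.ResidualRankOne
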