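import Cfsg.Agent.Lib.SylowInner.Cocycle
import Cfsg.Agent.Lib.ClassicalSimple.OrthMatrix

/-!
# The data used of a simple group of rank one in characteristic `p`

* every automorphism fixing a Sylow `p`-subgroup pointwise is inner;
* an element of the normaliser of a Sylow subgroup induces the fourth power on its centre.
-/

set_option autoImplicit false
set_option linter.unusedSectionVars false

namespace Cfsg.Agent.ResidualRankOne

open Subgroup Cfsg.Agent.SylowInner

/-- An element normalising a Sylow subgroup and inducing the fourth power on its centre. -/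
def TorusData (p : ℕ) (K : Type*) [Group K] : Prop :=
  ∃ (U : Sylow p K) (g : K), g ∈ normalizer ((U : Subgroup K) : Set K) ∧
    ∀ v ∈ (U : Subgroup K), (∀ u ∈ (U : Subgroup K), v * u = u * v) → g * v * g⁻¹ = v ^ 4

/-- The data. -/
structure RankData (p : ℕ) (K : Type*) [Group K] : Prop where
  simple : IsSimpleGroup K
  inner : InnerFix p K
  torus : TorusData p K

variable {p : ℕ} [Fact p.Prime] {K : Type*} [Group K] [Finite K]

theorem TorusData.of_equiv {H : Type*} [Group H] [Finite H] (h : TorusData p H) (e : K ≃* H) :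
    TorusData p K := by
  obtain ⟨U, g, hg, hv⟩ := h
  have hidx : ¬ p ∣ ((U : Subgroup H).map e.symm.toMonoidHom).index := by
    rw [Subgroup.index_map_of_bijective e.symm.bijective]
    exact U.not_dvd_index
  refine ⟨(U.2.map e.symm.toMonoidHom).toSylow hidx, e.symm g, ?_, ?_⟩
  · exact le_normalizer_map e.symm.toMonoidHom ⟨g, hg, rfl⟩
  · rintro _ ⟨v, hvU, rfl⟩ hc
    have hcv : ∀ u ∈ (U : Subgroup H), v * u = u * v := fun u hu => e.symm.injective (by
      simpa only [map_mul, MulEquiv.coe_toMonoidHom] using hc (e.symm u) ⟨u, hu, rfl⟩)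
    show e.symm g * e.symm v * (e.symm g)⁻¹ = e.symm v ^ 4
    rw [← map_inv, ← map_mul, ← map_mul, ← map_pow, hv v hvU hcv]

theorem RankData.of_equiv {H : Type*} [Group H] [Finite H] (h : RankData p H) (e : K ≃* H) :
    RankData p K :=
  haveI := h.simple
  ⟨ClassicalSimple.isSimpleGroup_of_equiv e, h.inner.of_equiv e, h.torus.of_equiv e⟩

/-- The torus element exists at every Sylow subgroup. -/
theorem TorusData.at_sylow (h : TorusData p K) (V : Sylow p K) :
    ∃ g : K, g ∈ normalizer ((V : Subgroup K) : Set K) ∧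
      ∀ v ∈ (V : Subgroup K), (∀ u ∈ (V : Subgroup K), v * u = u * v) → g * v * g⁻¹ = v ^ 4 := by
  obtain ⟨U, g, hg, hv⟩ := h
  obtain ⟨k, rfl⟩ := MulAction.exists_smul_eq K U V
  refine ⟨MulAut.conj k g, ?_, ?_⟩
  · rw [Sylow.coe_subgroup_smul]
    exact le_normalizer_map (MulAut.conj k).toMonoidHom ⟨g, hg, rfl⟩
  · intro y hy hc
    rw [Sylow.coe_subgroup_smul] at hy
    obtain ⟨v, hvU, rfl⟩ := hy
    have hcv : ∀ u ∈ (U : Subgroup K), v * u = u * v := fun u hu => (MulAut.conj k).injective (by
      rw [map_mul, map_mul]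
      exact hc (MulAut.conj k u) (by rw [Sylow.coe_subgroup_smul]; exact ⟨u, hu, rfl⟩))
    show MulAut.conj k g * MulAut.conj k v * (MulAut.conj k g)⁻¹ = MulAut.conj k v ^ 4
    rw [← map_inv, ← map_mul, ← map_mul, ← map_pow, hv v hvU hcv]

end Cfsg.Agent.ResidualRankOne
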