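import Cfsg.Agent.Lib.ResidualRankOne.Torus
import Cfsg.Agent.Lib.SylowInner.Forms
import Cfsg.Agent.Lib.SylowFix.Classical
import Cfsg.Agent.Lib.ClassicalSimple.UnitaryMatrix
import Cfsg.Agent.Lib.DiagBlock.Basic
import Cfsg.Agent.Lib.ClassicalSimple.SympMatrix

/-!
# The rank one data for `L₂(q)` and `U₃(q)`
-/

set_option autoImplicit false
set_option linter.unusedSectionVars false
set_option linter.style.haveILetI false

namespace Cfsg.Agent.ResidualRankOne

open Cfsg ClassicalSimple SylowFix SylowInner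

variable {F V : Type*} [Field F] [AddCommGroup V] [Module F V]

section symplectic

variable [Nontrivial V] {B : LinearMap.BilinForm F V} (hA : LinearMap.IsAlt B) (hN : B.Nondegenerate)
include hA hN

theorem sp_torus {z : V} (hz : z ≠ 0) (h2 : (2 : F) ≠ 0) : ∃ m : SpB B, m • z = (2 : F) • z := by
  obtain ⟨y, hy⟩ := exists_B_ne_zero hN hz
  set x := (B z y)⁻¹ • y with hx
  have hzx : B z x = 1 := by rw [hx, map_smul, smul_eq_mul, inv_mul_cancel₀ hy]
  have hxz : B x z = -1 := by rw [← hzx, LinearMap.IsAlt.neg hA]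
  have hM : ∀ s : F, s ≠ 0 → ∃ M : SpB B, M • z = -s⁻¹ • x ∧ M • x = s • z := by
    intro s hs
    refine ⟨spTransv hA z (-s) * spTransv hA x (-s⁻¹) * spTransv hA z (-s), ?_, ?_⟩
    · simp only [mul_smul, spTransv_smul, map_add, map_smul, LinearMap.add_apply, LinearMap.smul_apply,
        hA.self_eq_zero, hzx, hxz, smul_eq_mul, mul_zero, zero_smul, add_zero, mul_one]
      match_scalars <;> field_simp <;> ring
    · simp only [mul_smul, spTransv_smul, map_add, map_smul, LinearMap.add_apply, LinearMap.smul_apply,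
        hA.self_eq_zero, hzx, hxz, smul_eq_mul, mul_zero, zero_smul, add_zero, mul_one]
      match_scalars <;> field_simp <;> ring
  obtain ⟨M, hMz, hMx⟩ := hM 2 h2
  obtain ⟨N, hNz, -⟩ := hM (-1) (neg_ne_zero.2 one_ne_zero)
  refine ⟨M * N, ?_⟩
  rw [mul_smul, hNz, smul_comm M, hMx, smul_smul]
  congr 1
  norm_num

variable [FiniteDimensional F V]

theorem sp_center_act {z : V} (hz : z ≠ 0) (hd : Module.finrank F V ≤ 2) {t : SpB B}
    (ht : t ∈ rad (SpB B) (fun v => B v) z) :
    ∃ d : F, ∀ y : V, t • y = y + (B z y * d) • z := by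
  have P := sp_pointHyp hA hN hz
  obtain ⟨x, hx0, hzx⟩ := P.exists_pair
  have hzx' : B z x = 1 := hzx
  have hspan : ∀ w, B z w = 0 → ∃ c : F, c • z = w := by
    intro w hw
    by_contra hc
    push Not at hc
    have hli : LinearIndependent F ![z, w, x] := by
      rw [Fintype.linearIndependent_iff]
      intro g hg
      simp only [Fin.sum_univ_three, Matrix.cons_val_zero, Matrix.cons_val_one, Matrix.cons_val] at hg
      have e2 : g 2 = 0 := by simpa [hA.self_eq_zero, hw, hzx'] using congrArg (B z) hg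
      rw [e2, zero_smul, add_zero] at hg
      have e1 : g 1 = 0 := by
        by_contra h1
        refine hc (-(g 1)⁻¹ * g 0) ?_
        rw [add_eq_zero_iff_eq_neg] at hg
        rw [mul_smul, hg, neg_smul, smul_neg, neg_neg, inv_smul_smul₀ h1]
      rw [e1, zero_smul, add_zero, smul_eq_zero] at hg
      intro i
      fin_cases i
      exacts [hg.resolve_right hz, e1, e2]
    have := hli.fintype_card_le_finrank
    rw [Fintype.card_fin] at this
    omega
  obtain ⟨d, hd'⟩ := hspan (t • x - x) (by rw [map_sub, rad_phi P ht, sub_self])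
  refine ⟨d, fun y => act_of_fix (φ := fun v => B v) hzx (by rw [hd', add_sub_cancel]) (fun w hw => ?_) y⟩
  obtain ⟨c, rfl⟩ := hspan w hw
  rw [smul_comm t, ht.1]

theorem sp_rankData [Finite V] [Finite (SpB B)] {z : V} (hz : z ≠ 0) (hd : Module.finrank F V ≤ 2)
    (p : ℕ) [Fact p.Prime] [CharP F p] (hs : IsSimpleGroup (SpB B ⧸ Subgroup.center (SpB B)))
    (h2 : (2 : F) ≠ 0) : RankData p (SpB B ⧸ Subgroup.center (SpB B)) := by
  obtain ⟨m, hm⟩ := sp_torus hA hN hz h2
  exact rankData_point (sp_pointHyp hA hN hz) (by omega) p hs (sp_levi hA hN hz)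
    (fun y => by simp) hm h2 fun t ht _ => sp_center_act hA hN hz hd ht

end symplectic

section unitary

variable {σ : F →+* F} {h : V →ₛₗ[σ] V →ₗ[F] F} (hh : IsUnitaryForm σ h)
  [FiniteDimensional F V] [Finite F] (h3 : 3 ≤ Module.finrank F V)
include hh h3

/-- The element exchanging the lines of a hyperbolic pair, for skew parameters. -/
theorem unit_swap_skew {z x : V} (hz : h z z = 0) (hx : h x x = 0) (hzx : h z x = 1) {s : F}
    (hs : s + σ s = 0) (hs0 : s ≠ 0) :
    ∃ M : SUH h, M • z = -s⁻¹ • x ∧ M • x = s • z ∧ ∀ w, h z w = 0 → h x w = 0 → M • w = w := by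
  have hxz : h x z = 1 := by rw [hh.swap, hzx, map_one]
  have hlong : ∀ {v : V}, h v v = 0 → ∀ a : F, a + σ a = 0 →
      ∃ t : SUH h, ∀ y : V, t • y = y + (a * h v y) • v := by
    intro v hv a ha
    obtain ⟨t, -, e⟩ := unit_elt hh h3 hv (w := (0 : V)) (a := a) (map_zero _) (by simp [ha])
    exact ⟨t, fun y => by rw [e]; simp⟩
  obtain ⟨A, hA⟩ := hlong hz s hs
  obtain ⟨B, hB⟩ := hlong hx (-s⁻¹) (by
    have hs' : σ s = -s := (neg_eq_of_add_eq_zero_right hs).symm
    rw [map_neg, map_inv₀, hs', inv_neg, neg_neg, neg_add_cancel])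
  refine ⟨A * B * A, ?_, ?_, fun w h1 h2 => ?_⟩
  · simp only [mul_smul, hA, hB, hz, hx, hzx, hxz, map_add, map_smul, smul_eq_mul, mul_zero,
      zero_smul, add_zero, mul_one, zero_add]
    match_scalars <;> field_simp <;> ring
  · simp only [mul_smul, hA, hB, hz, hx, hzx, hxz, map_add, map_smul, smul_eq_mul, mul_zero,
      zero_smul, add_zero, mul_one, zero_add]
    match_scalars <;> field_simp <;> ring
  · simp [mul_smul, hA, hB, h1, h2]

theorem unit_torus {z x : V} (hz : h z z = 0) (hx : h x x = 0) (hzx : h z x = 1) (h2 : (2 : F) ≠ 0) :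
    ∃ m : SUH h, m • z = (2 : F) • z ∧ m • x = (2 : F)⁻¹ • x ∧
      ∀ w, h z w = 0 → h x w = 0 → m • w = w := by
  obtain ⟨s, hs0, hs⟩ := hh.exists_skew
  obtain ⟨M, hMz, hMx, hMw⟩ := unit_swap_skew hh h3 hz hx hzx (s := 2 * s)
    (by rw [map_mul, map_ofNat]; linear_combination 2 * hs) (mul_ne_zero h2 hs0)
  obtain ⟨N, hNz, hNx, hNw⟩ := unit_swap_skew hh h3 hz hx hzx (s := -s)
    (by rw [map_neg]; linear_combination -hs) (neg_ne_zero.2 hs0)
  refine ⟨M * N, ?_, ?_, fun w h1 h2 => by rw [mul_smul, hNw w h1 h2, hMw w h1 h2]⟩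
  · rw [mul_smul, hNz, smul_comm M, hMx, smul_smul]
    congr 1
    field_simp
  · rw [mul_smul, hNx, smul_comm M, hMz, smul_smul]
    congr 1
    field_simp

theorem unit_levi_odd {z : V} (hz0 : z ≠ 0) (hz : h z z = 0) (h2 : (2 : F) ≠ 0) :
    LeviHyp (SUH h) (fun v : V => v ≠ 0 ∧ h v v = 0) (fun v => h v) z := by
  refine levi_of_moves (unit_pointHyp hh h3 hz0 hz) (fun x w _ hw c => by simp [hw]) ?_
  intro x hx hzx w hzw hxw hw c
  have hxx : h x x = 0 := hx.2
  obtain ⟨m, hmz, hmx, hmw⟩ := unit_torus hh h3 hz hxx hzx h2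
  refine ⟨m, ⟨2, hmz.symm⟩, ⟨2⁻¹, hmx.symm⟩, ?_⟩
  rintro ⟨e, he⟩
  have hxm : m • (x + w + c • z) = (2 : F)⁻¹ • x + w + (c * 2) • z := by
    rw [smul_add, smul_add, smul_comm m c z, hmz, hmx, hmw w hzw hxw, smul_smul]
  rw [hxm] at he
  have h1 := congrArg (h z) he
  simp [hz, hzx, hzw] at h1
  subst h1
  have hxz : h x z = 1 := by rw [hh.swap, hzx, map_one]
  have h4 := congrArg (h x) he
  simp [hxx, hxz, hxw] at h4
  have h5 : ((2 : F)⁻¹ - 1) • w = 0 := by
    rw [sub_smul, one_smul, sub_eq_zero]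
    simp only [smul_add, smul_smul, h4, add_left_inj, add_right_inj] at he
    exact he
  refine (smul_eq_zero.1 h5).elim (fun e => ?_) hw
  have h7 : (2 : F) = 1 := inv_eq_one.1 (sub_eq_zero.1 e)
  exact one_ne_zero (show (1 : F) = 0 by linear_combination h7)

theorem unit_center_act {z : V} (hz0 : z ≠ 0) (hz : h z z = 0) {t : SUH h}
    (ht : t ∈ rad (SUH h) (fun v => h v) z)
    (hc : ∀ t' ∈ rad (SUH h) (fun v => h v) z, t * t' = t' * t) :
    ∃ d : F, ∀ y : V, t • y = y + (h z y * d) • z := by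
  have P := unit_pointHyp hh h3 hz0 hz
  obtain ⟨x, hxS, hzx⟩ := P.exists_pair
  have hzx' : h z x = 1 := hzx
  have hxz : h x z = 1 := by rw [hh.swap, hzx', map_one]
  set u := t • x - x with hu
  have htx : t • x = x + u := by rw [hu, add_sub_cancel]
  have hzu : h z u = 0 := by rw [hu, map_sub, rad_phi P ht, sub_self]
  have huz : h u z = 0 := hh.comm_zero hzu
  have hsmul : ∀ (g : SUH h) (a b : V), h (g • a) (g • b) = h a b := fun g a b =>
    uh_smul_smul (g : UH h) a b
  have hself : ∀ w, h z w = 0 → ∃ e : F, t • w = w + e • z ∧ e = -h u w ∧ h w u = h u w := by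
    intro w hw
    obtain ⟨e, he⟩ := ht.2 w hw
    have e1 : e = -h u w := by
      have h1 := hsmul t x w
      rw [htx, he] at h1
      simp only [map_add, map_smul, LinearMap.add_apply, smul_eq_mul, hxz, huz] at h1
      linear_combination h1
    obtain ⟨d, hd⟩ := hh.exists_trace_one
    obtain ⟨t', ht', e'⟩ := unit_elt hh h3 hz hw (a := -d * h w w)
      (by rw [map_mul, map_neg, hh.σ_self]; linear_combination -(h w w) * hd)
    refine ⟨e, he, e1, ?_⟩
    have h1 : t • t' • x = t' • t • x := by rw [← mul_smul, hc t' ht', mul_smul]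
    rw [htx, e' x, e' (x + u), hzx', one_smul, smul_add, smul_add, htx, he, smul_comm t, ht.1] at h1
    have h7 := congrArg (h x) h1
    simp only [map_add, map_smul, smul_eq_mul, hzu, add_zero, mul_one, hzx', hxz] at h7
    have h5 : e = -h w u := by linear_combination h7
    rw [e1] at h5
    exact (neg_injective h5).symm
  have hzero : ∀ w, h z w = 0 → h u w = 0 := by
    intro w hw
    obtain ⟨μ, hμ⟩ := hh.ne_id
    obtain ⟨-, -, -, h1⟩ := hself w hw
    obtain ⟨-, -, -, h2⟩ := hself (μ • w) (by rw [map_smul, hw, smul_zero])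
    simp only [map_smulₛₗ, LinearMap.smul_apply, smul_eq_mul, RingHom.id_apply] at h2
    rw [h1] at h2
    exact (mul_eq_mul_right_iff.1 h2).resolve_left hμ
  have hu' : u = σ (h u x) • z := sub_eq_zero.1 (hh.sep _ fun y => by
    have h1 := hzero (y - h z y • x) (by rw [map_sub, map_smul, smul_eq_mul, hzx', mul_one, sub_self])
    rw [map_sub, map_smul, smul_eq_mul] at h1
    simp only [map_sub, map_smulₛₗ, LinearMap.sub_apply, LinearMap.smul_apply, smul_eq_mul, hh.invol]
    linear_combination h1)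
  refine ⟨σ (h u x), fun y => act_of_fix (φ := fun v => h v) hzx (by rw [← hu', htx]) (fun w hw => ?_) y⟩
  obtain ⟨e, he, e1, -⟩ := hself w hw
  rw [he, e1, hzero w hw, neg_zero, zero_smul, add_zero]

theorem unit_rankData [Finite V] [Finite (SUH h)] {z : V} (hz0 : z ≠ 0) (hz : h z z = 0)
    (hd : Module.finrank F V ≤ 3) (p : ℕ) [Fact p.Prime] [CharP F p]
    (hs : IsSimpleGroup (SUH h ⧸ Subgroup.center (SUH h))) (h2 : (2 : F) ≠ 0) :
    RankData p (SUH h ⧸ Subgroup.center (SUH h)) := by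
  have P := unit_pointHyp hh h3 hz0 hz
  obtain ⟨x, hxS, hzx⟩ := P.exists_pair
  obtain ⟨m, hm, -, -⟩ := unit_torus hh h3 hz hxS.2 hzx h2
  exact rankData_point P hd p hs (unit_levi_odd hh h3 hz0 hz h2)
    (fun y => by simp only [map_smulₛₗ, LinearMap.smul_apply, smul_eq_mul, map_ofNat]) hm h2
    fun t ht hc => unit_center_act hh h3 hz0 hz ht hc

end unitary

section families

variable {F : Type} [Field F] [Fintype F] {p : ℕ} [Fact p.Prime] [CharP F p]

theorem two_ne_zero_of_five_le (hp : 5 ≤ p) : (2 : F) ≠ 0 := fun e => by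
  have h1 : ((2 : ℕ) : F) = 0 := by exact_mod_cast e
  have h := Nat.le_of_dvd (by norm_num) ((CharP.cast_eq_zero_iff F p 2).1 h1)
  omega

/-- `L₂(q)` has the data; the centre of `SL₂(q)` has order prime to `p`. -/
theorem sl_two (hp : 5 ≤ p) (h4 : 4 ≤ Fintype.card F) :
    RankData p (Matrix.ProjectiveSpecialLinearGroup (Fin 2) F) ∧
      ¬ p ∣ Nat.card (Subgroup.center (Matrix.SpecialLinearGroup (Fin 2) F)) := by
  haveI := nontrivial_symplectic_space (F := F) (m := 1) le_rfl
  haveI := finite_linearEquiv (F := F) (V := Fin 1 ⊕ Fin 1 → F)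
  obtain ⟨e⟩ := exists_sl_two_equiv_symplectic (F := F)
  have hs : IsSimpleGroup (Cfsg.PSp 1 F) := PSp_isSimpleGroup le_rfl (Or.inr (Or.inr h4))
  haveI : IsSimpleGroup (SpB (sympBilin 1 F) ⧸ Subgroup.center (SpB (sympBilin 1 F))) :=
    isSimpleGroup_of_equiv (centerQuotientCongr (symplecticEquiv (m := 1) (F := F))).symm
  obtain ⟨z, hz⟩ := exists_ne (0 : Fin 1 ⊕ Fin 1 → F)
  refine ⟨(sp_rankData sympBilin_isAlt sympBilin_nondegenerate hz (by simp) p inferInstance
    (two_ne_zero_of_five_le hp)).of_equiv (centerQuotientCongr e), ?_⟩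
  rw [Nat.card_congr ((Subgroup.equivMapOfInjective (Subgroup.center _) e.toMonoidHom e.injective).trans
    (MulEquiv.subgroupCongr (center_map_equiv e))).toEquiv]
  exact center_coprime (sp_pointHyp sympBilin_isAlt sympBilin_nondegenerate hz) p

/-- `U₃(q)` has the data; the centre of `SU₃(q)` has order prime to `p`. -/
theorem su_three (hp : 5 ≤ p) {q : ℕ} (hF : Fintype.card F = q ^ 2) (hq : q ≠ 2) :
    RankData p (Cfsg.PSU 3 F q) ∧ ¬ p ∣ Nat.card (Subgroup.center (Cfsg.SU 3 F q)) := by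
  have h3 : 3 ≤ Module.finrank F (Fin 3 → F) := by simp
  haveI := finite_linearEquiv (F := F) (V := Fin 3 → F)
  have hs : IsSimpleGroup (Cfsg.PSU 3 F q) := PSU_isSimpleGroup hF le_rfl (fun h => hq h.2)
  haveI : IsSimpleGroup (SUH (Forms.hermB hF 3) ⧸ Subgroup.center (SUH (Forms.hermB hF 3))) :=
    isSimpleGroup_of_equiv (centerQuotientCongr (suEquiv hF (n := 3))).symm
  obtain ⟨z, hz0, hz⟩ := exists_isotropic (hermB_isUnitary hF) h3
  refine ⟨(unit_rankData (hermB_isUnitary hF) h3 hz0 hz (by simp) p inferInstance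
    (two_ne_zero_of_five_le hp)).of_equiv (centerQuotientCongr (suEquiv hF)), ?_⟩
  rw [Nat.card_congr ((Subgroup.equivMapOfInjective (Subgroup.center _) (suEquiv hF).toMonoidHom
    (suEquiv hF).injective).trans (MulEquiv.subgroupCongr (center_map_equiv (suEquiv hF)))).toEquiv]
  exact center_coprime (unit_pointHyp (hermB_isUnitary hF) h3 hz0 hz) p

end families

end Cfsg.Agent.ResidualRankOne
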