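import Cfsg.Agent.Lib.ResidualRankOne.Abstract
import Cfsg.Agent.Lib.ResidualRankOne.Groups
import Cfsg.Agent.Lib.PCore.Basic

/-!
# No central `p`-element over a rank one residual

If `O^p(P/O_p(P))` is one of `SL₂`, `PSL₂`, `SU₃`, `PSU₃` in characteristic `p ≥ 5` and `S` is a Sylow
`p`-subgroup of `G` in `P`, then a `p`-element centralising `N_G(S)` lies in `O_p(P)`.
-/

set_option autoImplicit false
set_option linter.unusedSectionVars false

namespace Cfsg.Agent.ResidualRankOne

open Subgroup

/-- The facts used of the residual. -/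
structure ResidualData (p : ℕ) (X : Type*) [Group X] : Prop where
  perfect : commutator X = ⊤
  coprime : ¬ p ∣ Nat.card (center X)
  data : RankData p (X ⧸ center X)

theorem ResidualData.of_equiv {p : ℕ} [Fact p.Prime] {A B : Type*} [Group A] [Finite A] [Group B] [Finite B]
    (h : ResidualData p B) (e : A ≃* B) : ResidualData p A := by
  refine ⟨?_, ?_, h.data.of_equiv (ClassicalSimple.centerQuotientCongr e)⟩
  · have h1 := ClassicalSimple.map_commutator_top e.symm
    rw [h.perfect, map_top_of_surjective e.symm.toMonoidHom e.symm.surjective] at h1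
    exact h1.symm
  · rw [Nat.card_congr ((equivMapOfInjective (center A) e.toMonoidHom e.injective).trans
      (MulEquiv.subgroupCongr (ClassicalSimple.center_map_equiv e))).toEquiv]
    exact h.coprime

/-- A perfect group and its central quotient. -/
theorem ResidualData.central_quotient {p : ℕ} [Fact p.Prime] {A : Type*} [Group A] [Finite A]
    (h : ResidualData p A) : ResidualData p (A ⧸ center A) := by
  haveI := h.data.simple
  set π := QuotientGroup.mk' (center A)
  have hπs : Function.Surjective π := QuotientGroup.mk'_surjective _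
  have hperf : commutator (A ⧸ center A) = ⊤ := by
    rw [commutator_def, ← map_top_of_surjective π hπs, ← map_commutator, ← commutator_def, h.perfect]
  have hc : center (A ⧸ center A) = ⊥ := by
    refine (IsSimpleGroup.eq_bot_or_eq_top_of_normal _ inferInstance).resolve_right fun htop => ?_
    have h2 : commutator (A ⧸ center A) = ⊥ := by
      rw [commutator_def, commutator_eq_bot_iff_le_centralizer]
      intro a _ b _
      exact (mem_center_iff.1 (htop.ge (mem_top a)) b)
    exact bot_ne_top (h2.symm.trans hperf)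
  refine ⟨hperf, ?_, h.data.of_equiv ((QuotientGroup.quotientMulEquivOfEq hc).trans QuotientGroup.quotientBot)⟩
  rw [hc, card_bot]
  exact (Fact.out : p.Prime).not_dvd_one

variable {p : ℕ} [Fact p.Prime]

theorem residualData_of_shape (hp : 5 ≤ p) {X : Type*} [Group X] [Finite X] (h : ∃ (F : Type) (_ : Field F) (_ : Fintype F) (a : ℕ), 1 ≤ a ∧
      ((Fintype.card F = p ^ a ∧ (Nonempty (X ≃* Matrix.SpecialLinearGroup (Fin 2) F) ∨
                                  Nonempty (X ≃* Matrix.ProjectiveSpecialLinearGroup (Fin 2) F))) ∨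
       (Fintype.card F = p ^ (2 * a) ∧ (Nonempty (X ≃* ↥(Cfsg.SU 3 F (p ^ a))) ∨
                                        Nonempty (X ≃* Cfsg.PSU 3 F (p ^ a)))))) :
    ResidualData p X := by
  obtain ⟨F, _, _, a, ha, h⟩ := h
  have hpr : p.Prime := Fact.out
  rcases h with ⟨hF, h⟩ | ⟨hF, h⟩
  · haveI : CharP F p := charP_of_card_eq_prime_pow hF
    have h4 : 4 ≤ Fintype.card F := by
      rw [hF]; exact le_trans (by omega) (Nat.le_self_pow (by omega) p)
    obtain ⟨hd, hc⟩ := sl_two (F := F) hp h4
    have hq : ResidualData p (Matrix.SpecialLinearGroup (Fin 2) F) :=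
      ⟨(DiagBlock.isQuasisimple_SL (F := F) (m := 2) le_rfl fun _ => by
        rwa [Nat.card_eq_fintype_card]).1.1, hc, hd⟩
    rcases h with ⟨⟨e⟩⟩ | ⟨⟨e⟩⟩
    · exact hq.of_equiv e
    · exact hq.central_quotient.of_equiv e
  · haveI : CharP F p := charP_of_card_eq_prime_pow hF
    have hF' : Fintype.card F = (p ^ a) ^ 2 := by rw [hF, ← pow_mul, mul_comm 2 a]
    have hq2 : p ^ a ≠ 2 := fun e => by
      have := Nat.le_self_pow (show a ≠ 0 by omega) p
      omega
    obtain ⟨hd, hc⟩ := su_three (F := F) hp hF' hq2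
    have hq : ResidualData p (Cfsg.SU 3 F (p ^ a)) :=
      ⟨ClassicalSimple.SU_perfect hF' le_rfl (fun h => hq2 h.2), hc, hd⟩
    rcases h with ⟨⟨e⟩⟩ | ⟨⟨e⟩⟩
    · exact hq.of_equiv e
    · exact hq.central_quotient.of_equiv e

/-- The statement in the group. -/
theorem mem_pCore {G : Type*} [Group G] [Finite G] (hp : 5 ≤ p) (S : Sylow p G) (P : Subgroup G)
    (hSP : (S : Subgroup G) ≤ P) [hn : (Cfsg.pCore p ↥P).Normal]
    (hX : ResidualData p ↥(Cfsg.pResidual p (↥P ⧸ Cfsg.pCore p ↥P))) {z : G}
    (hz : ∀ y ∈ normalizer ((S : Subgroup G) : Set G), y * z = z * y) (hzp : ∃ k : ℕ, orderOf z = p ^ k) :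
    z ∈ (Cfsg.pCore p ↥P).map P.subtype := by
  obtain ⟨k, hk⟩ := hzp
  -- `z ∈ S`
  have hzS : z ∈ (S : Subgroup G) := by
    have hle : zpowers z ≤ normalizer ((S : Subgroup G) : Set G) := by
      rw [zpowers_le]
      refine mem_normalizer_fintype fun s hs => ?_
      rw [← hz s (le_normalizer hs), mul_inv_cancel_right]
      exact hs
    have hzp : IsPGroup p (zpowers z) := IsPGroup.of_card (by rw [Nat.card_zpowers, hk])
    exact (S.3 (LocalStructure.isPGroup_sup hzp S.2 hle) le_sup_right).le
      ((le_sup_left : zpowers z ≤ _) (mem_zpowers z))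
  set π := QuotientGroup.mk' (Cfsg.pCore p ↥P) with hπ
  have hπs : Function.Surjective π := QuotientGroup.mk'_surjective _
  set S' : Sylow p ↥P := S.subtype hSP with hS'
  have hcore : Cfsg.pCore p ↥P ≤ (S' : Subgroup ↥P) := PCore.pCore_le_sylow S'
  set z' : ↥P := ⟨z, hSP hzS⟩ with hz'
  haveI := LocalStructure.pResidual_normal p (↥P ⧸ Cfsg.pCore p ↥P)
  have h1 : π z' = 1 := eq_one_of_data (X := Cfsg.pResidual p (↥P ⧸ Cfsg.pCore p ↥P)) hp
    PCore.pCore_quotient_self_eq_bot
    (fun y => (LocalStructure.exists_coprime_pow_mem (p := p) y).imp fun _ hj =>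
      LocalStructure.mem_pResidual hj) hX.perfect hX.coprime hX.data (S'.mapSurjective hπs)
    ⟨z', hzS, rfl⟩ ?_
  · exact ⟨z', (QuotientGroup.eq_one_iff _).1 h1, rfl⟩
  intro y hy
  obtain ⟨g, rfl⟩ := hπs y
  have hgS : (g : G) ∈ normalizer ((S : Subgroup G) : Set G) := by
    refine mem_normalizer_fintype fun s hs => ?_
    have hs' : (⟨s, hSP hs⟩ : ↥P) ∈ (S' : Subgroup ↥P) := hs
    obtain ⟨b, hb, e⟩ := (mem_normalizer_iff.1 hy _).1 ⟨_, hs', rfl⟩
    rw [← map_inv, ← map_mul, ← map_mul] at e
    have h2 : g * ⟨s, hSP hs⟩ * g⁻¹ ∈ (S' : Subgroup ↥P) := by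
      have := mul_mem hb (hcore (QuotientGroup.eq.1 e))
      rwa [mul_inv_cancel_left] at this
    exact h2
  rw [← map_mul, ← map_mul]
  congr 1
  exact Subtype.ext (hz _ hgS)

end Cfsg.Agent.ResidualRankOne
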