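import Cfsg.Agent.Lib.PMinLie.RankOne
import Cfsg.Agent.Lib.SylowInner.Point
import Cfsg.Agent.Lib.ResidualRankOne.Data

/-!
# Point geometry in dimension at most three: the radical, its centre and the torus

* `rad_index`: the radical has index prime to `p`;
* `center_coprime`: the centre has order prime to `p`;
* `rankData_point`: the rank one data of the central quotient.
-/

set_option autoImplicit false
set_option linter.unusedSectionVars false

namespace Cfsg.Agent.ResidualRankOne

open ClassicalSimple SylowFix SylowInner PMinLie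

variable {F V K : Type*} [Field F] [AddCommGroup V] [Module F V] [Group K] [DistribMulAction K V]
  [SMulCommClass K F V] {S : V → Prop} {φ : V → Module.Dual F V} {z : V}

theorem rad_index [Finite K] [Finite V] [FiniteDimensional F V] (P : PointHyp K S φ z)
    (h3 : Module.finrank F V ≤ 3) (p : ℕ) [Fact p.Prime] [CharP F p] :
    ¬ p ∣ (rad K φ z).index := by
  classical
  set G₁ := setStab K (Submodule.span F {z})
  set R := rad K φ z with hR
  have hz0 := z_ne P
  obtain ⟨x₀, hx₀, hzx₀⟩ := P.exists_pair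
  have hx₀z : φ x₀ z ≠ 0 := fun h => by
    have := (phi_symm P).1 h
    rw [hzx₀] at this
    exact one_ne_zero this
  have hle : R ≤ G₁ := rad_le_setStab P
  have hnorm : (R.subgroupOf G₁).Normal := ⟨fun t ht g => by
    obtain ⟨a, ha⟩ := mem_line.1 (g.2.1 z (Submodule.mem_span_singleton_self z))
    have ha0 : a ≠ 0 := fun h => by
      rw [h, zero_smul, eq_comm, smul_eq_zero_iff_eq] at ha
      exact hz0 ha
    have := rad_conj P ht (g : K)
    rwa [← ha, rad_scale P ha0] at this⟩
  obtain ⟨T, hT⟩ := ((rad_isPGroup P p).of_equiv (Subgroup.subgroupOfEquivOfLe hle).symm :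
    IsPGroup p (R.subgroupOf G₁)).exists_le_sylow
  have hTR : (T : Subgroup G₁) = R.subgroupOf G₁ := by
    refine le_antisymm (fun g hg => ?_) hT
    obtain ⟨a, ha⟩ := mem_line.1 (g.2.1 z (Submodule.mem_span_singleton_self z))
    have ha0 : a ≠ 0 := fun h => by
      rw [h, zero_smul, eq_comm, smul_eq_zero_iff_eq] at ha
      exact hz0 ha
    have hc : φ z ((g : K) • x₀) ≠ 0 := fun h => by
      have h' : φ (a • z) ((g : K) • x₀) = 0 := (P.sc a z _ ha0).2 h
      rw [ha, P.inv, hzx₀] at h'
      exact one_ne_zero h'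
    obtain ⟨t, ht, htx⟩ := P.regular x₀ ((φ z ((g : K) • x₀))⁻¹ • (g : K) • x₀) hx₀
      (P.S_smul _ _ (inv_ne_zero hc) (P.geom.map_S _ hx₀)) hzx₀ (by simp [hc])
    set g' : G₁ := (⟨t, hle ht⟩ : G₁)⁻¹ * g with hg'
    have hg'T : g' ∈ (T : Subgroup G₁) := mul_mem (inv_mem (hT ht)) hg
    obtain ⟨k, hk⟩ := T.isPGroup' ⟨g', hg'T⟩
    have hk' : (g' : K) ^ p ^ k = 1 := congrArg (fun u : (T : Subgroup G₁) => ((u : G₁) : K)) hk
    have hfix : ∀ v : V, (∃ b : F, (g' : K) • v = b • v) → (g' : K) • v = v := by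
      rintro v ⟨b, hb⟩
      by_cases hv : v = 0
      · simp [hv]
      have hpow : ∀ j : ℕ, ((g' : K) ^ j) • v = b ^ j • v := by
        intro j
        induction j with
        | zero => simp
        | succ j ih => rw [pow_succ, mul_smul, hb, smul_comm, ih, smul_smul, pow_succ']
      have h1 : b ^ p ^ k = 1 := smul_left_injective F hv (by
        show b ^ p ^ k • v = (1 : F) • v
        rw [← hpow, hk', one_smul, one_smul])
      have : b = 1 := iterateFrobenius_inj F p k (by
        simp only [iterateFrobenius_def, one_pow]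
        exact h1)
      rw [hb, this, one_smul]
    have hgz : (g' : K) • z = z := hfix z ⟨a, by
      show ((t⁻¹ * g : K)) • z = a • z
      rw [mul_smul, ← ha, smul_comm, inv_smul_eq_iff.2 ht.1.symm]⟩
    have hgx : (g' : K) • x₀ = x₀ := hfix x₀ ⟨φ z ((g : K) • x₀), by
      show ((t⁻¹ * g : K)) • x₀ = _
      rw [mul_smul, inv_smul_eq_iff, smul_comm t, htx, smul_inv_smul₀ hc]⟩
    have hall : ∀ v : V, (g' : K) • v = v := by
      intro v
      set w := v - φ z v • x₀ - ((φ x₀ (v - φ z v • x₀)) / φ x₀ z) • z with hw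
      have hw1 : φ z w = 0 := by simp [hw, hzx₀, P.self]
      have hw2 : φ x₀ w = 0 := by simp [hw, div_mul_cancel₀ _ hx₀z]
      have hgw : (g' : K) • w = w := by
        by_cases hw0 : w = 0
        · simp [hw0]
        refine hfix w ?_
        have hne : φ z x₀ ≠ 0 := by rw [hzx₀]; exact one_ne_zero
        obtain ⟨b, hb⟩ := independent_four h3 (φ z) (φ x₀) (x := (g' : K) • w) ⟨hw1, hw2⟩
          ⟨by conv_lhs => rw [← hgz]
              rw [P.inv, hw1],
           by conv_lhs => rw [← hgx]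
              rw [P.inv, hw2]⟩
          ⟨P.self, hx₀z⟩ hne hw0
        exact ⟨b, hb.symm⟩
      have e : v = w + φ z v • x₀ + ((φ x₀ (v - φ z v • x₀)) / φ x₀ z) • z := by rw [hw]; abel
      conv_lhs => rw [e]
      rw [smul_add, smul_add, smul_comm, smul_comm (g' : K) _ z, hgw, hgx, hgz, ← e]
    have h1 : g' = 1 := Subtype.ext (P.ext _ hall)
    rw [hg', inv_mul_eq_one] at h1
    rw [← h1]
    exact ht
  rw [← Subgroup.relIndex_mul_index hle]
  refine fun h => ((Fact.out : p.Prime).dvd_mul.1 h).elim ?_ (not_dvd_index_point P p)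
  show ¬ p ∣ (R.subgroupOf G₁).index
  exact hTR ▸ T.not_dvd_index

/-- The centre has order prime to `p`. -/
theorem center_coprime [Finite K] (P : PointHyp K S φ z) (p : ℕ) [Fact p.Prime] [CharP F p] :
    ¬ p ∣ Nat.card (Subgroup.center K) := by
  intro hd
  obtain ⟨k, hk⟩ := exists_prime_orderOf_dvd_card' p hd
  obtain ⟨a, ha⟩ := (P.center k).1 k.2
  have hpw : ∀ j : ℕ, ∀ v : V, ((k : K) ^ j) • v = a ^ j • v := by
    intro j
    induction j with
    | zero => simp
    | succ j ih => intro v; rw [pow_succ, mul_smul, ha, smul_comm, ih, smul_smul, pow_succ']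
  have hkp : (k : K) ^ p = 1 := by
    rw [← SubgroupClass.coe_pow, ← hk, pow_orderOf_eq_one, OneMemClass.coe_one]
  have h1 : a ^ p = 1 := smul_left_injective F (z_ne P) (by
    show a ^ p • z = (1 : F) • z
    rw [← hpw, hkp, one_smul, one_smul])
  have h2 : a = 1 := frobenius_inj F p (by simp only [frobenius_def, one_pow]; exact h1)
  have h3 : k = 1 := Subtype.ext (P.ext _ fun v => by rw [ha, h2, one_smul])
  rw [h3, orderOf_one] at hk
  exact (Fact.out : p.Prime).ne_one hk.symm

/-- The action of an element fixing `φ z`'s kernel pointwise. -/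
theorem act_of_fix {t : K} {x : V} {d : F} (hx : φ z x = 1) (htx : t • x = x + d • z)
    (hfix : ∀ w, φ z w = 0 → t • w = w) (y : V) : t • y = y + (φ z y * d) • z := by
  have h1 := hfix (y - φ z y • x) (by rw [map_sub, map_smul, hx, smul_eq_mul, mul_one, sub_self])
  rw [smul_sub, smul_comm t (φ z y) x, htx] at h1
  rw [sub_eq_iff_eq_add.1 h1, smul_add, smul_smul]
  abel

/-- The central quotient has the rank one data. -/
theorem rankData_point [Finite K] [Finite V] [FiniteDimensional F V] (P : PointHyp K S φ z)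
    (h3 : Module.finrank F V ≤ 3) (p : ℕ) [Fact p.Prime] [CharP F p]
    (hs : IsSimpleGroup (K ⧸ Subgroup.center K)) (hlevi : LeviHyp K S φ z)
    (h2 : ∀ y : V, φ ((2 : F) • z) y = 2 * φ z y) {m : K} (hm : m • z = (2 : F) • z)
    (hm0 : (2 : F) ≠ 0)
    (hact : ∀ t ∈ rad K φ z, (∀ t' ∈ rad K φ z, t * t' = t' * t) →
      ∃ d : F, ∀ y : V, t • y = y + (φ z y * d) • z) :
    RankData p (K ⧸ Subgroup.center K) := by
  classical
  refine ⟨hs, inner_point P p hlevi, ?_⟩
  set π := QuotientGroup.mk' (Subgroup.center K) with hπ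
  have hπs : Function.Surjective π := QuotientGroup.mk'_surjective _
  let U : Sylow p K := (rad_isPGroup P p).toSylow (rad_index P h3 p)
  have hUmem : ∀ t : K, t ∈ (U : Subgroup K) ↔ t ∈ rad K φ z := fun t => Iff.rfl
  have hmL : m ∈ lineStab F K z (z_ne P) := ⟨2, hm.symm⟩
  refine ⟨U.mapSurjective hπs, π m, ?_, ?_⟩
  · refine Subgroup.mem_normalizer_fintype ?_
    rintro _ ⟨t, ht, rfl⟩
    exact ⟨m * t * m⁻¹, rad_normal P hmL ht, by simp [map_mul, map_inv]⟩
  rintro _ ⟨t, ht, rfl⟩ hc
  have ht' : t ∈ rad K φ z := ht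
  have hcomm : ∀ t' ∈ rad K φ z, t * t' = t' * t := by
    intro t' ht'2
    have h1 := hc (π t') ⟨t', ht'2, rfl⟩
    rw [← map_mul, ← map_mul] at h1
    have h4 : (t' * t)⁻¹ * (t * t') ∈ Subgroup.center K := QuotientGroup.eq.1 h1.symm
    have h5 : (t' * t)⁻¹ * (t * t') ∈ rad K φ z :=
      mul_mem (inv_mem (mul_mem ht'2 ht')) (mul_mem ht' ht'2)
    exact (inv_mul_eq_one.1 (central_rad P h5 h4)).symm
  obtain ⟨d, hd⟩ := hact t ht' hcomm
  have htz : t • z = z := ht'.1
  have hpw : ∀ j : ℕ, ∀ y : V, (t ^ j) • y = y + ((j : F) * (φ z y * d)) • z := by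
    intro j
    induction j with
    | zero => intro y; simp
    | succ j ih =>
      intro y
      rw [pow_succ', mul_smul, ih, smul_add, smul_comm t, htz, hd]
      push_cast
      rw [add_mul, one_mul, add_smul]
      abel
  rw [← map_inv, ← map_mul, ← map_mul, ← map_pow]
  congr 1
  have hconj : ∀ y : V, (m * t * m⁻¹) • y = (t ^ 4) • y := by
    intro y
    have e : φ z (m⁻¹ • y) = 2 * φ z y := by rw [← inv_apply P, hm, h2]
    rw [mul_smul, mul_smul, hd, smul_add, smul_inv_smul, smul_comm m, hm, smul_smul, hpw, e]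
    congr 2
    push_cast
    ring
  refine (inv_mul_eq_one.1 (P.ext ((t ^ 4)⁻¹ * (m * t * m⁻¹)) fun y => ?_)).symm
  rw [mul_smul, hconj, inv_smul_smul]

end Cfsg.Agent.ResidualRankOne
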